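import Cfsg.Agent.LyRec.Conf
import Cfsg.Agent.LyRec.Model
import Cfsg.Agent.DCoset.Steps
import Cfsg.Agent.DCoset.Cover
import Cfsg.Agent.DCoset.Emit

/-!
The rules and relators that a configuration gives for double coset derivations over the double
cover, and the refutation from a derivation of the extra involution in the centraliser.
-/

set_option autoImplicit false
set_option maxRecDepth 100000

namespace Cfsg.Agent.LyRec.Collapse

open Cfsg Cfsg.Agent.LyLocal
open Cfsg.Agent.CosetCert (allFrom force force_eq)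
open Cfsg.Agent.DCoset (Tab Rules Steps QModel val valW lettersBelow)

/-- A packed word. -/
noncomputable def pw (l : List ℕ) : ℕ :=
  Nat.add (List.length l)
    (Nat.mul 65536 (List.rec (motive := fun _ => ℕ) 0 (fun s _ r => Nat.add s (Nat.mul 256 r)) l))

theorem val_pw {M : Type*} [Monoid M] (lv : ℕ → M) (l : List ℕ) (h : ∀ s ∈ l, s < 256)
    (hl : l.length < 65536) : val lv (pw l) = (l.map lv).prod := by
  set b : List ℕ → ℕ := fun l => List.rec (motive := fun _ => ℕ) 0 (fun s _ r => Nat.add s (Nat.mul 256 r)) l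
  have key : ∀ l : List ℕ, (∀ s ∈ l, s < 256) → valW lv l.length (b l) = (l.map lv).prod := by
    intro l
    induction l with
    | nil => intro _; rfl
    | cons s l ih =>
      intro h
      have hs := h s (by simp)
      show lv (b (s :: l) % 256) * valW lv l.length (b (s :: l) / 256) = _
      rw [show b (s :: l) = s + 256 * b l from rfl, Nat.add_mul_mod_self_left, Nat.mod_eq_of_lt hs,
        Nat.add_mul_div_left _ _ (by norm_num : 0 < 256), Nat.div_eq_of_lt hs, Nat.zero_add,
        ih fun r hr => h r (List.mem_cons_of_mem _ hr)]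
      rfl
  show valW lv ((l.length + 65536 * b l) % 65536) ((l.length + 65536 * b l) / 65536) = _
  rw [Nat.add_mul_mod_self_left, Nat.mod_eq_of_lt hl,
    Nat.add_mul_div_left _ _ (by norm_num : 0 < 65536), Nat.div_eq_of_lt hl, Nat.zero_add, key l h]

/-- The inverse of a letter. -/
noncomputable def invL (g : ℕ) : ℕ := Nat.mod (Nat.add g 9) 18

/-- The inverse of a word. -/
noncomputable def invW (l : List ℕ) : List ℕ := (l.map invL).reverse

/-- A word in the lifts as a word in the letters. -/
noncomputable def toN (w : List (Fin 9)) : List ℕ := w.map Fin.val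

/-- The six forms of one relator. -/
noncomputable def rels6 (g h y : List ℕ) : List (List ℕ × List ℕ × List ℕ) :=
  [(g, h, y), (h, invW y, invW g), (invW y, g, invW h), (y, invW h, g), (invW h, invW g, invW y),
    (invW g, y, h)]

/-- The relators of a configuration. -/
noncomputable def relList (j : Fin 3) : List (List ℕ × List ℕ × List ℕ) :=
  rels6 (toN (relG j 0)) (toN (relH j 0)) (toN (relY j 0)) ++
    rels6 (toN (relG j 1)) (toN (relH j 1)) (toN (relY j 1))

/-- The conjugation rules of a configuration. -/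
noncomputable def ruleList (j : Fin 3) : List (List ℕ × List ℕ) :=
  [(toN (Alpha.gen 0), toN (Alpha.img j 0)), (toN (Alpha.gen 1), toN (Alpha.img j 1)),
    (toN (Alpha.gen 2), toN (Alpha.img j 2)),
    (invW (toN (Alpha.gen 0)), invW (toN (Alpha.img j 0))),
    (invW (toN (Alpha.gen 1)), invW (toN (Alpha.img j 1))),
    (invW (toN (Alpha.gen 2)), invW (toN (Alpha.img j 2)))]

/-- The rules and relators. -/
noncomputable def rules (j : Fin 3) : Rules where
  nT := 2
  invT τ := τ
  mulT a b := Nat.add (Nat.mod (Nat.add a b) 2) 1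
  nRule := 24
  rS r := cond (Nat.blt r 18) 0 1
  rD r := cond (Nat.blt r 18) 0 1
  rU r := cond (Nat.blt r 18) (pw [r]) (pw ((ruleList j).getD (Nat.sub r 18) ([], [])).1)
  rV r := cond (Nat.blt r 18) (pw [r]) (pw ((ruleList j).getD (Nat.sub r 18) ([], [])).2)
  nRel := 12
  relHd _ := 1
  relLen _ := 2
  relW r m := cond (Nat.beq m 0) (pw ((relList j).getD r ([], [], [])).1)
    (pw ((relList j).getD r ([], [], [])).2.1)
  relT _ _ := 1
  relTl r := pw ((relList j).getD r ([], [], [])).2.2

/-- A word is short and spelled in the eighteen letters. -/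
noncomputable def okL (l : List ℕ) : Bool := Nat.blt l.length 65536 && l.all fun s => Nat.blt s 18

theorem lists_ok : (List.finRange 3).all (fun j =>
    (ruleList j).all (fun e => okL e.1 && okL e.2 && Model.tab.okWord (pw e.1) && Model.tab.okWord (pw e.2)) &&
    (relList j).all (fun e => okL e.1 && okL e.2.1 && okL e.2.2 && Model.tab.okWord (pw e.1) &&
      Model.tab.okWord (pw e.2.1) && Model.tab.okWord (pw e.2.2))) = true ∧
    allFrom (fun r => Model.tab.okWord (pw [r])) 0 18 = true := by
  refine ⟨?_, ?_⟩ <;> decide +kernel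

variable [IsSimpleGroup P]

/-- A word in the double cover. -/
noncomputable def wD (l : List ℕ) : DD := (l.map Model.qL).prod

theorem el_pw {l : List ℕ} (h : okL l = true) : Model.qm.el (pw l) = wD l := by
  simp only [okL, Bool.and_eq_true, Nat.blt_eq, List.all_eq_true] at h
  rw [QModel.el, val_pw _ _ (fun s hs => by have := h.2 s hs; omega) h.1]
  rfl

theorem qL_invL {g : ℕ} (hg : g < 18) : Model.qL (invL g) = (Model.qL g)⁻¹ := by
  show Model.qL ((g + 9) % 18) = _
  by_cases h : g < 9
  · rw [Nat.mod_eq_of_lt (show g + 9 < 18 by omega), Model.qL, Model.qL, dif_neg (by omega),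
      dif_pos (show g + 9 < 18 by omega), dif_pos h]
    exact congrArg (fun i => (Model.lift i)⁻¹) (Fin.ext (by simp))
  · rw [show (g + 9) % 18 = g - 9 by omega, Model.qL, Model.qL, dif_pos (show g - 9 < 9 by omega),
      dif_neg h, dif_pos hg, inv_inv]

theorem wD_invW : ∀ {l : List ℕ}, (∀ s ∈ l, s < 18) → wD (invW l) = (wD l)⁻¹
  | [], _ => by simp [wD, invW]
  | s :: l, h => by
    have ih := wD_invW (l := l) fun r hr => h r (List.mem_cons_of_mem _ hr)
    rw [invW, List.map_cons, List.reverse_cons, wD, List.map_append, List.prod_append, wD,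
      List.map_cons, List.map_cons, List.map_nil, List.prod_cons, List.prod_nil, List.prod_cons,
      mul_one, mul_inv_rev, qL_invL (h s (List.mem_cons_self ..))]
    exact congrArg (· * _) ih

theorem wD_coe (w : List (Fin 9)) : (wD (toN w) : P) = liftW w := by
  rw [wD, toN, List.map_map]
  exact Model.prod_qL w

variable {G : Type*} [Group G] (S : Setting G)

theorem f_toN (w : List (Fin 9)) : S.f (wD (toN w)) = S.word w := by
  rw [Setting.word, ← wD_coe, fP_eq S (wD (toN w)).2]

theorem toN_lt (w : List (Fin 9)) : ∀ s ∈ toN w, s < 18 := fun s hs => by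
  obtain ⟨i, -, rfl⟩ := List.mem_map.1 hs
  omega

theorem invW_lt {l : List ℕ} : ∀ s ∈ invW l, s < 18 := fun s hs => by
  rw [invW, List.mem_reverse] at hs
  obtain ⟨i, -, rfl⟩ := List.mem_map.1 hs
  exact Nat.mod_lt _ (by norm_num)

/-- The tuple of a word. -/
noncomputable def tupW (l : List ℕ) : ℕ := DCoset.Cover.appP Model.tab Model.tab.base (pw l)

/-- A word that can be evaluated on tuples. -/
noncomputable def goodW (l : List ℕ) : Bool := okL l && DCoset.Cover.okP Model.tab (pw l)

theorem tupW_eq {l : List ℕ} (h : goodW l = true) : tupW l = Model.qm.tup (wD l) := by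
  simp only [goodW, Bool.and_eq_true] at h
  rw [← el_pw h.1]
  exact DCoset.Cover.appP_base (P := Model.qm) h.2

/-- The extra letters. -/
def Tfun {H : Type*} [Group H] (x : H) (τ : ℕ) : H := if τ = 1 then x else 1

variable {S} {j : Fin 3} {x : G} (h : Conf S j x)

include h

theorem rule_holds : ∀ e ∈ ruleList j, x * S.f (wD e.2) = S.f (wD e.1) * x := by
  have key : ∀ k, x * S.f (wD (toN (Alpha.img j k))) = S.f (wD (toN (Alpha.gen k))) * x := fun k => by
    rw [f_toN, f_toN, ← h.conj k, ← mul_assoc, ← mul_assoc, h.sq, one_mul]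
  have keyi : ∀ k, x * S.f (wD (invW (toN (Alpha.img j k)))) =
      S.f (wD (invW (toN (Alpha.gen k)))) * x := fun k => by
    rw [wD_invW (toN_lt _), wD_invW (toN_lt _), map_inv, map_inv]
    exact ((SemiconjBy.inv_right (key k : SemiconjBy x _ _)) : _)
  intro e he
  simp only [ruleList, List.mem_cons, List.not_mem_nil, or_false] at he
  rcases he with rfl | rfl | rfl | rfl | rfl | rfl
  exacts [key 0, key 1, key 2, keyi 0, keyi 1, keyi 2]

theorem rel_holds : ∀ e ∈ relList j, x * S.f (wD e.1) * x * S.f (wD e.2.1) * x = S.f (wD e.2.2) := by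
  have xi : x⁻¹ = x := inv_eq_of_mul_eq_one_right h.sq
  have rot : ∀ a b c : G, x * a * x * b * x = c → x * b * x * c⁻¹ * x = a⁻¹ := fun a b c e => by
    rw [← e]
    simp only [mul_inv_rev, xi, mul_assoc]
    simp only [← mul_assoc]
    group
    simp [pow_two, h.sq, xi, mul_assoc]
  have rev : ∀ a b c : G, x * a * x * b * x = c → x * b⁻¹ * x * a⁻¹ * x = c⁻¹ := fun a b c e => by
    rw [← e]
    simp only [mul_inv_rev, xi, mul_assoc]
  have key : ∀ r, ∀ e ∈ rels6 (toN (relG j r)) (toN (relH j r)) (toN (relY j r)),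
      x * S.f (wD e.1) * x * S.f (wD e.2.1) * x = S.f (wD e.2.2) := by
    intro r e he
    have h0 : x * S.f (wD (toN (relG j r))) * x * S.f (wD (toN (relH j r))) * x =
        S.f (wD (toN (relY j r))) := by
      rw [f_toN, f_toN, f_toN]; exact h.rel r
    have h1 := rot _ _ _ h0
    have h2 := rot _ _ _ h1
    have h3 := rev _ _ _ h0
    have h4 := rot _ _ _ h3
    have h5 := rot _ _ _ h4
    simp only [inv_inv] at h1 h2 h3 h4 h5
    simp only [rels6, List.mem_cons, List.not_mem_nil, or_false] at he
    rcases he with rfl | rfl | rfl | rfl | rfl | rfl <;>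
      simp only [wD_invW (toN_lt _), map_inv]
    exacts [h0, h1, h2, h5, h3, h4]
  intro e he
  rcases List.mem_append.1 he with he | he
  exacts [key 0 e he, key 1 e he]

theorem sound : (rules j).Sound (Model.qm.toModel S.f) (Tfun x) := by
  have hn : (rules j).nT = 2 := rfl
  have hok := List.all_eq_true.1 lists_ok.1 j (List.mem_finRange j)
  simp only [Bool.and_eq_true, List.all_eq_true] at hok
  constructor
  · rfl
  · intro τ hτ
    rw [hn] at hτ ⊢
    refine ⟨hτ, ?_⟩
    show Tfun x τ * Tfun x τ = 1
    interval_cases τ <;> simp [Tfun, h.sq]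
  · intro σ τ hσ hτ _
    rw [hn] at hσ hτ ⊢
    show (σ + τ) % 2 + 1 - 1 < 2 ∧ Tfun x σ * Tfun x τ = Tfun x ((σ + τ) % 2 + 1 - 1)
    interval_cases σ <;> interval_cases τ <;> simp [Tfun, h.sq]
  · intro r hr
    have hr' : r < 24 := hr
    rw [hn]
    show cond (Nat.blt r 18) 0 1 < 2 ∧ cond (Nat.blt r 18) 0 1 < 2 ∧
      Model.tab.okWord (cond (Nat.blt r 18) (pw [r]) _) = true ∧
      Model.tab.okWord (cond (Nat.blt r 18) (pw [r]) _) = true ∧
      Tfun x (cond (Nat.blt r 18) 0 1) * val (Model.qm.toModel S.f).lv (cond (Nat.blt r 18) (pw [r]) _) =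
        val (Model.qm.toModel S.f).lv (cond (Nat.blt r 18) (pw [r]) _) * Tfun x (cond (Nat.blt r 18) 0 1)
    by_cases h18 : r < 18
    · rw [show Nat.blt r 18 = true from Nat.blt_eq.mpr h18]
      simp only [cond_true]
      have ho := DCoset.allFrom_all lists_ok.2 h18
      exact ⟨by norm_num, by norm_num, ho, ho, by simp [Tfun]⟩
    · rw [show Nat.blt r 18 = false by simpa [← Bool.not_eq_true] using Nat.le_of_not_lt h18]
      simp only [cond_false]
      have hs : Nat.sub r 18 < (ruleList j).length := by
        show r - 18 < 6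
        omega
      have hmem : (ruleList j).getD (Nat.sub r 18) ([], []) ∈ ruleList j := by
        rw [List.getD_eq_getElem _ _ hs]; exact List.getElem_mem hs
      obtain ⟨⟨⟨o1, o2⟩, w1⟩, w2⟩ := hok.1 _ hmem
      refine ⟨by norm_num, by norm_num, w1, w2, ?_⟩
      rw [QModel.el_val, QModel.el_val, el_pw o1, el_pw o2]
      simp only [Tfun, if_true]
      exact rule_holds h _ hmem
  · intro r hr
    have hs : r < (relList j).length := by
      show r < 12
      exact hr
    have hmem : (relList j).getD r ([], [], []) ∈ relList j := by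
      rw [List.getD_eq_getElem _ _ hs]; exact List.getElem_mem hs
    obtain ⟨⟨⟨⟨⟨o1, o2⟩, o3⟩, w1⟩, w2⟩, w3⟩ := hok.2 _ hmem
    rw [hn]
    refine ⟨by show 1 < 2; norm_num, w3, fun m hm => ⟨by show 1 < 2; norm_num, ?_⟩, ?_⟩
    · show Model.tab.okWord (cond (Nat.beq m 0) _ _) = true
      cases Nat.beq m 0
      exacts [w2, w1]
    · show Tfun x 1 * ((List.range 2).map fun m => val (Model.qm.toModel S.f).lv
        (cond (Nat.beq m 0) (pw ((relList j).getD r ([], [], [])).1)
          (pw ((relList j).getD r ([], [], [])).2.1)) * Tfun x 1).prod =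
          val (Model.qm.toModel S.f).lv (pw ((relList j).getD r ([], [], [])).2.2)
      simp only [List.range_succ, List.range_zero, List.map_append, List.map_cons, List.map_nil,
        List.nil_append, List.cons_append, List.prod_cons, List.prod_nil, mul_one, QModel.el_val,
        show Nat.beq 0 0 = true from rfl, show Nat.beq 1 0 = false from rfl, cond_true, cond_false,
        el_pw o1, el_pw o2, el_pw o3]
      rw [← rel_holds h _ hmem]
      simp [Tfun, mul_assoc]

/-- A derivation of the involution in the centraliser refutes a configuration, given a word in the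
generators that spells the central involution and is moved by the automorphism. -/
theorem false_of_steps (D : Steps)
    (hchk : allFrom (Steps.check D (rules j) Model.tab) 0 D.len = true)
    (hsrc : allFrom (fun i => Nat.beq i 0 || Nat.blt (D.nodeSrc i) i) 0 D.nNode = true)
    (hend : (Nat.blt 0 D.len && Nat.beq (D.fI (D.len - 1)) 0 && Nat.beq (D.fJ (D.len - 1)) 0 &&
      Nat.beq (D.fT (D.len - 1)) 1) = true)
    (ks : List (Fin 3))
    (hw : (goodW (ks.flatMap fun k => toN (Alpha.gen k)) &&
      goodW (ks.flatMap fun k => toN (Alpha.img j k)) && goodW [0, 1, 0, 1] &&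
      Nat.beq (tupW (ks.flatMap fun k => toN (Alpha.gen k))) (tupW [0, 1, 0, 1]) &&
      !(Nat.beq (tupW (ks.flatMap fun k => toN (Alpha.img j k))) (tupW [0, 1, 0, 1]))) = true) : False := by
  simp only [Bool.and_eq_true, Nat.beq_eq, Nat.blt_eq] at hend
  obtain ⟨⟨⟨hlen, hI⟩, hJ⟩, hT⟩ := hend
  have hF := DCoset.Steps.holds (D := D) (Hs := S.f.range) (sound h) (fun g _ => ⟨Model.qm.q g, rfl⟩)
    (fun i hi hi' => by
      have := DCoset.allFrom_all hsrc hi'
      simp only [Bool.or_eq_true, Nat.beq_eq, Nat.blt_eq] at this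
      exact this.resolve_left (by omega))
    (by show 0 < 2; norm_num) (fun s hs => DCoset.allFrom_all hchk hs) (D.len - 1) (by omega)
  rw [DCoset.Steps.Holds, hI, hJ, hT] at hF
  obtain ⟨-, a, b, ⟨a', -, ha⟩, ⟨b', -, hb⟩, hmem⟩ := hF
  rw [DCoset.Steps.rep_zero, one_mul, inv_one, mul_one] at hmem
  have hx : x ∈ S.f.range := by
    have : Tfun x 1 ∈ S.f.range := by
      have h2 := mul_mem (mul_mem (inv_mem (⟨a', ha⟩ : a ∈ S.f.range)) hmem) (⟨b', hb⟩ : b ∈ S.f.range)
      simpa [mul_assoc] using h2
    simpa [Tfun] using this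
  obtain ⟨c, hc⟩ := hx
  -- conjugation by `c` carries the word in the generators to the word in the images
  have hprod : ∀ ks : List (Fin 3), c * wD (ks.flatMap fun k => toN (Alpha.gen k)) * c⁻¹ =
      wD (ks.flatMap fun k => toN (Alpha.img j k)) := by
    have hci : c⁻¹ = c := inv_eq_of_mul_eq_one_right (S.inj (by rw [map_mul, hc, h.sq, map_one]))
    intro ks
    induction ks with
    | nil => simp [wD]
    | cons k ks ih =>
      have hk : c * wD (toN (Alpha.gen k)) * c⁻¹ = wD (toN (Alpha.img j k)) := by
        refine S.inj ?_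
        rw [hci, map_mul, map_mul, hc, f_toN, f_toN, h.conj k]
      simp only [wD, List.flatMap_cons, List.map_append, List.prod_append] at hk ih ⊢
      rw [← hk, ← ih]
      group
  simp only [Bool.and_eq_true, Nat.beq_eq, Bool.not_eq_true'] at hw
  obtain ⟨⟨⟨⟨g1, g2⟩, g3⟩, hg⟩, hi⟩ := hw
  rw [tupW_eq g1, tupW_eq g3] at hg
  have e := Model.qm.inj hg
  suffices hq : tupW (ks.flatMap fun k => toN (Alpha.img j k)) = tupW [0, 1, 0, 1] by
    rw [hq] at hi
    simp at hi
  rw [tupW_eq g2, tupW_eq g3]
  refine congrArg Model.qm.tup ?_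
  rw [← hprod, e]
  have htt : ((wD [0, 1, 0, 1] : DD) : P) = tt := by
    rw [show ([0, 1, 0, 1] : List ℕ) = toN [0, 1, 0, 1] from rfl, wD_coe]
    have : (lifts.E (restOf 0) * lifts.E (restOf 1)) ^ 2 = tt := lifts.prod_sq _ _ (by decide)
    rw [← xl_eq, ← xl_eq, pow_two] at this
    simpa [liftW, mul_assoc] using this
  have hcom : Commute c (wD [0, 1, 0, 1]) := Subtype.ext (by
    rw [Subgroup.coe_mul, Subgroup.coe_mul, htt]
    exact tt_central c.2)
  rw [hcom.eq, mul_inv_cancel_right]

end Cfsg.Agent.LyRec.Collapse
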